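import Groth.Agent.AlgSpQC.Base
import Groth.Agent.AlgSpQC.Hom
import Groth.Agent.ModShf.ToSheaf
import Mathlib.CategoryTheory.Sites.Limits
import Mathlib.CategoryTheory.Limits.ConcreteCategory.Basic
import Mathlib.CategoryTheory.Filtered.Basic

/-!
# Sections of filtered colimits of modules on the small etale site
-/

set_option autoImplicit false
universe u

open CategoryTheory CategoryTheory.Limits AlgebraicGeometry Opposite

set_option backward.isDefEq.respectTransparency false
set_option backward.isDefEq.respectTransparency.types false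

namespace Groth.Agent.AlgSpB.HomColim

open _root_.AlgSp Groth.Agent.AlgSpQC

section Site

universe w v₁ u₁

variable {C : Type u₁} [Category.{v₁} C] (J : GrothendieckTopology C) {I : Type w} [SmallCategory I]
  [HasSheafify J AddCommGrpCat.{w}] [HasColimitsOfShape I AddCommGrpCat.{w}] [IsFiltered I]
  [PreservesColimitsOfShape I (forget AddCommGrpCat.{w})]
  (D : I ⥤ Sheaf J AddCommGrpCat.{w}) {c : Cocone D} (hc : IsColimit c)
  [Presheaf.IsLocallySurjective J (toSheafify J (colimit (D ⋙ sheafToPresheaf J AddCommGrpCat.{w})))]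
  [Presheaf.IsLocallyInjective J (toSheafify J (colimit (D ⋙ sheafToPresheaf J AddCommGrpCat.{w})))]

include hc

/-- Sections of a filtered colimit come from the stages locally. -/
theorem exists_rep_sieve (E : C) (s : c.pt.obj.obj (op E)) :
    ∃ T ∈ J E, ∀ (V : C) (h : V ⟶ E), T h →
      ∃ (i : I) (t : (D.obj i).obj.obj (op V)), (c.ι.app i).hom.app (op V) t = c.pt.obj.map h.op s := by
  let P := colimit.cocone (D ⋙ sheafToPresheaf J AddCommGrpCat.{w})
  let e := hc.coconePointUniqueUpToIso (Sheaf.isColimitSheafifyCocone P (colimit.isColimit _))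
  have : Presheaf.IsLocallySurjective J (toSheafify J P.pt) :=
    inferInstanceAs (Presheaf.IsLocallySurjective J (toSheafify J (colimit (D ⋙ sheafToPresheaf J AddCommGrpCat.{w}))))
  refine ⟨_, Presheaf.imageSieve_mem J (toSheafify J P.pt) (e.hom.hom.app (op E) s), fun V h hh => ?_⟩
  obtain ⟨p, hp⟩ := hh
  have hev := isColimitOfPreserves
    ((evaluation Cᵒᵖ AddCommGrpCat.{w}).obj (op V)) (colimit.isColimit (D ⋙ sheafToPresheaf J AddCommGrpCat.{w}))
  obtain ⟨i, t, rfl⟩ := Concrete.isColimit_exists_rep _ hev p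
  refine ⟨i, t, (ConcreteCategory.bijective_of_isIso (((sheafToPresheaf _ _).mapIso e).app (op V)).hom).1 ?_⟩
  have h1 : c.ι.app i ≫ e.hom = (Sheaf.sheafifyCocone P).ι.app i :=
    IsColimit.comp_coconePointUniqueUpToIso_hom _ _ _
  have h2 : e.hom.hom.app (op V) ((c.ι.app i).hom.app (op V) t) =
      (toSheafify J P.pt).app (op V) ((P.ι.app i).app (op V) t) := by
    show (c.ι.app i ≫ e.hom).hom.app (op V) t = _
    rw [h1, Sheaf.sheafifyCocone_ι_app_val]
    rfl
  exact h2.trans (hp.trans (NatTrans.naturality_apply e.hom.hom h.op s).symm)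

/-- Sections vanishing in a filtered colimit vanish at a later stage locally. -/
theorem exists_zero_sieve (E : C) {i : I} (t : (D.obj i).obj.obj (op E))
    (ht : (c.ι.app i).hom.app (op E) t = 0) :
    ∃ T ∈ J E, ∀ (V : C) (h : V ⟶ E), T h →
      ∃ (j : I) (φ : i ⟶ j), (D.map φ).hom.app (op V) ((D.obj i).obj.map h.op t) = 0 := by
  let P := colimit.cocone (D ⋙ sheafToPresheaf J AddCommGrpCat.{w})
  let e := hc.coconePointUniqueUpToIso (Sheaf.isColimitSheafifyCocone P (colimit.isColimit _))
  have h0 : (toSheafify J P.pt).app (op E) ((P.ι.app i).app (op E) t) = (toSheafify J P.pt).app (op E) 0 := by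
    rw [map_zero]
    have h1 : c.ι.app i ≫ e.hom = (Sheaf.sheafifyCocone P).ι.app i :=
      IsColimit.comp_coconePointUniqueUpToIso_hom _ _ _
    have h2 : ((Sheaf.sheafifyCocone P).ι.app i).hom.app (op E) t = 0 := by
      rw [← h1]
      show e.hom.hom.app (op E) ((c.ι.app i).hom.app (op E) t) = 0
      rw [ht, map_zero]
    rw [Sheaf.sheafifyCocone_ι_app_val] at h2
    exact h2
  have : Presheaf.IsLocallyInjective J (toSheafify J P.pt) :=
    inferInstanceAs (Presheaf.IsLocallyInjective J (toSheafify J (colimit (D ⋙ sheafToPresheaf J AddCommGrpCat.{w}))))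
  refine ⟨_, Presheaf.equalizerSieve_mem J (toSheafify J P.pt) _ _ h0, fun V h hh => ?_⟩
  have hz : (P.ι.app i).app (op V) ((D.obj i).obj.map h.op t) = (P.ι.app i).app (op V) 0 := by
    refine (NatTrans.naturality_apply (P.ι.app i) h.op t).trans (hh.trans ?_)
    rw [map_zero, map_zero]
  have hev := isColimitOfPreserves
    ((evaluation Cᵒᵖ AddCommGrpCat.{w}).obj (op V)) (colimit.isColimit (D ⋙ sheafToPresheaf J AddCommGrpCat.{w}))
  obtain ⟨j, φ, ψ, hφ⟩ := (Concrete.isColimit_rep_eq_iff_exists _ hev _ _).1 hz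
  exact ⟨j, φ, hφ.trans (map_zero ((D.map ψ).hom.app (op V)).hom)⟩

end Site

variable {S : Scheme.{u}} {X : Space S} {I : Type (u + 1)} [Preorder I] [IsDirected I (· ≤ ·)] [Nonempty I]
  (D : I ⥤ ModEt X.obj) {c : Cocone D} (hc : IsColimit c)

include hc

/-- Sections of a directed colimit of modules come from the stages locally. -/
theorem exists_rep_local {E : EtOver X.obj} (s : sectModEt c.pt E) :
    ∃ T ∈ etTop X.obj E, ∀ (V : EtOver X.obj) (h : V ⟶ E), T h →
      ∃ (i : I) (t : sectModEt (D.obj i) V), hs (c.ι.app i) V t = rs c.pt h s :=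
  exists_rep_sieve (etTop X.obj) (D ⋙ SheafOfModules.toSheaf (OEtRing X.obj))
    (isColimitOfPreserves (SheafOfModules.toSheaf (OEtRing X.obj)) hc) E s

/-- Sections vanishing in a directed colimit of modules vanish at a later stage locally. -/
theorem exists_zero_local {E : EtOver X.obj} {i : I} (t : sectModEt (D.obj i) E) (ht : hs (c.ι.app i) E t = 0) :
    ∃ T ∈ etTop X.obj E, ∀ (V : EtOver X.obj) (h : V ⟶ E), T h →
      ∃ (j : I) (φ : i ⟶ j), hs (D.map φ) V (rs (D.obj i) h t) = 0 :=
  exists_zero_sieve (etTop X.obj) (D ⋙ SheafOfModules.toSheaf (OEtRing X.obj))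
    (isColimitOfPreserves (SheafOfModules.toSheaf (OEtRing X.obj)) hc) E t ht

end Groth.Agent.AlgSpB.HomColim
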