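import Groth.Agent.AlgSpEN.StrataSq
import Groth.Agent.AlgSp.QCMor
import Groth.Agent.AlgSp.LimOpen
import Groth.Agent.AlgSpB.HomColim.Sections
import Groth.Agent.AlgSpB.FPCover.Colim
import Groth.Agent.AlgSpB.Chev.Eval

/-!
# Finite affine covers and gluing of global sections
-/

set_option autoImplicit false
universe u

open CategoryTheory CategoryTheory.Limits AlgebraicGeometry Opposite

set_option backward.isDefEq.respectTransparency false
set_option backward.isDefEq.respectTransparency.types false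

namespace Groth.Agent.AlgSpB.HomColim

open _root_.AlgSp Groth.Agent.AlgSpQC

variable {S : Scheme.{u}} {X : Space S}

/-- A quasi-compact object is covered by finitely many affine ones. -/
theorem exists_finite_affine (E : EtOver X.obj) [CompactSpace E.obj.left.left] :
    ∃ (κ : Type u) (_ : Finite κ) (V : κ → EtOver X.obj) (f : ∀ k, V k ⟶ E),
      (∀ k, IsAffine (V k).obj.left.left) ∧ ∀ x : E.obj.left.left, ∃ k, x ∈ Set.range (f k).hom.left.left := by
  choose V f hV hx _ using fun x : E.obj.left.left => SubQC.exists_affine_nbhd E ⊤ (x := x) trivial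
  have ho : ∀ x, IsOpen (Set.range (f x).hom.left.left) := fun x => by
    have := EtOver.etale_left (f x)
    exact (f x).hom.left.left.isOpenMap.isOpen_range
  obtain ⟨s, hs⟩ := isCompact_univ.elim_finite_subcover _ ho fun x _ => Set.mem_iUnion.2 ⟨x, hx x⟩
  refine ⟨s, inferInstance, fun k => V k.1, fun k => f k.1, fun k => hV _, fun x => ?_⟩
  obtain ⟨y, hy, hxy⟩ := Set.mem_iUnion₂.1 (hs (Set.mem_univ x))
  exact ⟨⟨y, hy⟩, hxy⟩

/-- Products of affine objects are quasi-compact. -/
theorem compactSpace_prodObj [QuasiSeparatedSpace ↥S] (hqs : IsQuasiSeparatedSp X.obj) (E₁ E₂ : EtOver X.obj)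
    [IsAffine E₁.obj.left.left] [IsAffine E₂.obj.left.left] :
    CompactSpace (EtOver.prodObj E₁ E₂).obj.left.left := by
  have hm := Groth.Agent.AlgSp.isQuasiCompactMor_of_quasiCompactSp (IsAlgSpace.yon_obj E₂.obj.left) X.property
    E₂.obj.hom (Groth.Agent.AlgSp.isQuasiCompactSp_yon E₂.obj.left) hqs
  exact Groth.Agent.AlgSp.LimOpen.compactSpace_of_isQuasiCompactSp
    (hm (IsAlgSpace.yon_obj E₁.obj.left) (Groth.Agent.AlgSp.isQuasiCompactSp_yon E₁.obj.left) _ _ _
      (E₂.property.1.isPullback E₁.obj.hom))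

/-- An affine object meeting every object. -/
theorem exists_covering_affine (hqc : IsQuasiCompactSp X.obj) :
    ∃ E₀ : EtOver X.obj, IsAffine E₀.obj.left.left ∧ ∀ (E : EtOver X.obj) (x : E.obj.left.left),
      ∃ z : (EtOver.prodObj E E₀).obj.left.left, (EtOver.prodFst E E₀).hom.left.left z = x := by
  obtain ⟨U, p, hU, hp, hs⟩ := Groth.Agent.AlgSpEN.exists_affine_atlas X hqc
  refine ⟨EtOver.mk p hp, hU, fun E x => ?_⟩
  let E₂ : EtOver X.obj := EtOver.mk p hp
  have : Surjective (E₂.property.1.snd E.obj.hom).left := hs.2 _ _ _ (E₂.property.1.isPullback E.obj.hom)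
  exact (E₂.property.1.snd E.obj.hom).left.surjective x

/-- Compatible sections over a covering family give a global section. -/
theorem exists_sections_glue {M : ModEt X.obj} {κ : Type u} (W : κ → EtOver X.obj)
    (hW : ∀ (E : EtOver X.obj) (x : E.obj.left.left), ∃ (k : κ) (Z : EtOver X.obj) (a : Z ⟶ E) (_ : Z ⟶ W k),
      x ∈ Set.range a.hom.left.left)
    (y : ∀ k, sectModEt M (W k))
    (hy : ∀ k l (Z : EtOver X.obj) (c₁ : Z ⟶ W k) (c₂ : Z ⟶ W l), rs M c₁ (y k) = rs M c₂ (y l)) :
    ∃ σ : M.sections, ∀ k, sec σ (W k) = y k := by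
  choose k Z a b hx using hW
  choose t ht using fun E : EtOver X.obj => exists_glue_sections (M := M) (a E) (fun x => ⟨x, hx E x⟩)
    (fun x => rs M (b E x) (y (k E x))) fun i j Z' gi gj _ => by
      rw [← rs_comp, ← rs_comp]
      exact hy _ _ _ _ _
  have key : ∀ (E Z' : EtOver X.obj) (c : Z' ⟶ E) (l : κ) (d : Z' ⟶ W l), rs M c (t E) = rs M d (y l) := by
    intro E Z' c l d
    refine eq_of_sieve (GrothendieckTopology.pullback_stable _ c
      (AlgSp.ofArrows_mem_etTop (Z E) (a E) fun x => ⟨x, hx E x⟩)) fun Q g hg => ?_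
    obtain ⟨x, α, hα⟩ := Sieve.mem_ofArrows_iff .. |>.1 hg
    rw [← rs_comp, hα, rs_comp (a E x) α, ht, ← rs_comp, ← rs_comp]
    exact hy _ _ _ _ _
  refine ⟨PresheafOfModules.sectionsMk (fun E => t E.unop) fun E E' g => ?_, fun l => ?_⟩
  · change rs M g.unop (t E.unop) = t E'.unop
    refine eq_of_family (a E'.unop) (fun x => ⟨x, hx _ x⟩) fun x => ?_
    rw [ht, ← rs_comp]
    exact key _ _ _ _ _
  · change t (W l) = y l
    refine (rs_id (W l) (t (W l))).symm.trans ((key _ _ (𝟙 (W l)) l (𝟙 (W l))).trans (rs_id _ _))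

end Groth.Agent.AlgSpB.HomColim
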