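import Groth.Agent.AlgSpB.HomColim.Cover
import Groth.Agent.AlgSpQC.Finite
import Mathlib.Data.Fintype.Order

/-!
# Homomorphisms out of modules of finite presentation and directed colimits
-/

set_option autoImplicit false
universe u

open CategoryTheory CategoryTheory.Limits AlgebraicGeometry Opposite

set_option backward.isDefEq.respectTransparency false
set_option backward.isDefEq.respectTransparency.types false
set_option maxHeartbeats 1000000

noncomputable section

namespace Groth.Agent.AlgSpB.HomColim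

open _root_.AlgSp Groth.Agent.AlgSpQC Groth.Agent.AlgSpEN.HomC

variable {S : Scheme.{u}} {X : Space S} {G M N : ModEt X.obj} {E : EtOver X.obj}

/-- Composition of a family with a morphism. -/
def famPost (α : M ⟶ N) (h : LinFam G M E) : LinFam G N E :=
  ⟨fun j => (hs α j.1.1).toAddMonoidHom.comp (h.1 j), fun V v hV a x => by
      change hs α V (cmp h v hV (a • x)) = a • hs α V (cmp h v hV x)
      rw [cmp_smul', map_smul],
    fun V W v g hV hW x => by
      change rs N g (hs α V (cmp h v hV x)) = hs α W (cmp h (g ≫ v) hW (rs G g x))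
      rw [← hs_rs, cmp_rs h v g hV hW]⟩

theorem cmp_famPost (α : M ⟶ N) (h : LinFam G M E) {V : EtOver X.obj} (v : V ⟶ E) (hV : IsAffine V.obj.left.left)
    (x : sectModEt G V) : cmp (famPost α h) v hV x = hs α V (cmp h v hV x) := rfl

/-- The family of a morphism. -/
def homFam (φ : G ⟶ N) (E : EtOver X.obj) : LinFam G N E :=
  ⟨fun j => (hs φ j.1.1).toAddMonoidHom, fun V v hV a x => map_smul (hs φ V) a x,
    fun V W v g hV hW x => (hs_rs φ g x).symm⟩

theorem cmp_homFam (φ : G ⟶ N) {V : EtOver X.obj} (v : V ⟶ E) (hV : IsAffine V.obj.left.left)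
    (x : sectModEt G V) : cmp (homFam φ E) v hV x = hs φ V x := rfl

/-- Families on an affine object are determined by their value there. -/
theorem fam_ext_affine [G.IsQuasicoherent] (hE : IsAffine E.obj.left.left) {h h' : LinFam G M E}
    (e : ∀ x, cmp h (𝟙 E) hE x = cmp h' (𝟙 E) hE x) : h = h' := by
  have := hE
  obtain ⟨ev, hev⟩ := exists_affine_eval G M (E := E)
  exact ev.injective (LinearMap.ext fun x => (hev _ x).trans ((e x).trans (hev _ x).symm))

theorem rs_homMod {E' : EtOver X.obj} (g : E' ⟶ E) (h : LinFam G M E) :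
    rs (homMod G M) g (h : sectModEt (homMod G M) E) = linRes g h := rfl

variable {I : Type (u + 1)} [Preorder I] [IsDirected I (· ≤ ·)] [Nonempty I] (D : I ⥤ ModEt X.obj)

omit [IsDirected I (· ≤ ·)] [Nonempty I] in
theorem hs_map_map {i j k : I} (f : i ⟶ j) (g : j ⟶ k) (V : EtOver X.obj) (t : sectModEt (D.obj i) V) :
    hs (D.map g) V (hs (D.map f) V t) = hs (D.map (f ≫ g)) V t := by
  rw [D.map_comp, hs_comp]

variable {D} {c : Cocone D} (hc : IsColimit c)

theorem hs_ι_map {i j : I} (f : i ⟶ j) (V : EtOver X.obj) (t : sectModEt (D.obj i) V) :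
    hs (c.ι.app j) V (hs (D.map f) V t) = hs (c.ι.app i) V t := by
  rw [← hs_comp, c.w]
  rfl

include hc

/-- A section over an affine object vanishing in the colimit vanishes at a later stage. -/
theorem exists_zero [IsAffine E.obj.left.left] {i : I} (t : sectModEt (D.obj i) E) (h0 : hs (c.ι.app i) E t = 0) :
    ∃ (j : I) (f : i ⟶ j), hs (D.map f) E t = 0 := by
  obtain ⟨T, hT, hT'⟩ := exists_zero_local D hc t h0
  obtain ⟨κ, _, V, v, -, hTv, hv⟩ := exists_affine_family hT
  choose j f hf using fun k => hT' _ _ (hTv k)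
  obtain ⟨m, hm⟩ := Finite.exists_le j
  obtain ⟨m', hm', him⟩ := directed_of (· ≤ ·) m i
  refine ⟨m', homOfLE him, eq_of_family v hv fun k => ?_⟩
  rw [map_zero, ← hs_rs, show homOfLE him = f k ≫ homOfLE ((hm k).trans hm') from Subsingleton.elim _ _,
    ← hs_map_map, hf, map_zero]

/-- Linear maps out of a finite module equal in the colimit agree at a later stage. -/
theorem exists_agree [IsAffine E.obj.left.left] [Module.Finite (gr E) (sectModEt G E)] {i : I}
    (l l' : sectModEt G E →ₗ[gr E] sectModEt (D.obj i) E)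
    (h : ∀ x, hs (c.ι.app i) E (l x) = hs (c.ι.app i) E (l' x)) :
    ∃ (j : I) (f : i ⟶ j), ∀ x, hs (D.map f) E (l x) = hs (D.map f) E (l' x) := by
  obtain ⟨n, s, hs'⟩ := Module.Finite.exists_fin (R := gr E) (M := sectModEt G E)
  choose j f hf using fun a => exists_zero hc (l (s a) - l' (s a)) (by rw [map_sub, h, sub_self])
  obtain ⟨m, hm⟩ := Finite.exists_le j
  obtain ⟨m', hm', him⟩ := directed_of (· ≤ ·) m i
  refine ⟨m', homOfLE him, fun x => ?_⟩
  have e : (hs (D.map (homOfLE him)) E).comp l = (hs (D.map (homOfLE him)) E).comp l' := by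
    refine LinearMap.ext_on_range hs' fun a => ?_
    rw [LinearMap.comp_apply, LinearMap.comp_apply, ← sub_eq_zero, ← map_sub,
      show homOfLE him = f a ≫ homOfLE ((hm a).trans hm') from Subsingleton.elim _ _, ← hs_map_map, hf, map_zero]
  exact LinearMap.congr_fun e x

/-- Families over a quasi-compact object equal in the colimit agree at a later stage. -/
theorem exists_agree_fam [G.IsFinitePresentation] [CompactSpace E.obj.left.left] {i : I}
    (h h' : LinFam G (D.obj i) E) (e : famPost (c.ι.app i) h = famPost (c.ι.app i) h') :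
    ∃ (j : I) (f : i ⟶ j), famPost (D.map f) h = famPost (D.map f) h' := by
  have : G.IsQuasicoherent := inferInstance
  obtain ⟨κ, _, V, v, hV, hv⟩ := exists_finite_affine E
  have hk : ∀ k, ∃ (j : I) (f : i ⟶ j), ∀ x,
      hs (D.map f) (V k) (cmp h (v k) (hV k) x) = hs (D.map f) (V k) (cmp h' (v k) (hV k) x) := fun k => by
    have := hV k
    have : Module.FinitePresentation (gr (V k)) (sectModEt G (V k)) := finitePresentation_sections (V k)
    exact exists_agree hc
      { toFun := cmp h (v k) (hV k), map_add' := cmp_map_add _ _ _, map_smul' := cmp_smul' _ _ _ }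
      { toFun := cmp h' (v k) (hV k), map_add' := cmp_map_add _ _ _, map_smul' := cmp_smul' _ _ _ }
      fun x => (congrArg (fun l => cmp l (v k) (hV k) x) e :)
  choose j f hf using hk
  obtain ⟨m, hm⟩ := Finite.exists_le j
  obtain ⟨m', hm', him⟩ := directed_of (· ≤ ·) m i
  refine ⟨m', homOfLE him, eq_of_family (M := homMod G (D.obj m')) v hv fun k => ?_⟩
  refine fam_ext_affine (hV k) fun x => ?_
  rw [rs_homMod, rs_homMod, cmp_linRes, cmp_linRes, cmp_famPost, cmp_famPost, Category.id_comp,
    show homOfLE him = f k ≫ homOfLE ((hm k).trans hm') from Subsingleton.elim _ _, ← hs_map_map, ← hs_map_map, hf]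

variable [QuasiSeparatedSpace ↥S] (hqc : IsQuasiCompactSp X.obj) (hqs : IsQuasiSeparatedSp X.obj)

include hqc

/-- Morphisms equal in the colimit agree at a later stage. -/
theorem exists_hom_eq [G.IsFinitePresentation] {i : I} (ψ ψ' : G ⟶ D.obj i)
    (e : ψ ≫ c.ι.app i = ψ' ≫ c.ι.app i) : ∃ (j : I) (f : i ⟶ j), ψ ≫ D.map f = ψ' ≫ D.map f := by
  obtain ⟨E₀, hE₀, hcov⟩ := exists_covering_affine hqc
  obtain ⟨j, f, hf⟩ := exists_agree_fam hc (homFam ψ E₀) (homFam ψ' E₀) (fam_ext fun V v hV x => by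
    rw [cmp_famPost, cmp_famPost, cmp_homFam, cmp_homFam, ← hs_comp, ← hs_comp, e])
  refine ⟨j, f, FPCover.hom_ext_affine fun E hE x => ?_⟩
  choose z hz using hcov E
  choose V v hV hx _ using fun p : E.obj.left.left => SubQC.exists_affine_nbhd (EtOver.prodObj E E₀) ⊤ (x := z p) trivial
  refine eq_of_family (fun p => v p ≫ EtOver.prodFst E E₀) (fun p => ⟨p, ?_⟩) fun p => ?_
  · obtain ⟨w, hw⟩ := hx p
    exact ⟨w, (congrArg _ hw).trans (hz p)⟩
  · rw [← hs_rs, ← hs_rs, hs_comp, hs_comp]
    exact congrArg (fun l => cmp l (v p ≫ EtOver.prodSnd E E₀) (hV p) (rs G (v p ≫ EtOver.prodFst E E₀) x)) hf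

include hqs

/-- Morphisms into the colimit come from a stage. -/
theorem exists_hom_lift [G.IsFinitePresentation] (φ : G ⟶ c.pt) :
    ∃ (i : I) (ψ : G ⟶ D.obj i), ψ ≫ c.ι.app i = φ := by
  have : G.IsQuasicoherent := inferInstance
  obtain ⟨E₀, hE₀, hcov⟩ := exists_covering_affine hqc
  have : Module.FinitePresentation (gr E₀) (sectModEt G E₀) := finitePresentation_sections E₀
  obtain ⟨n, s, hsp⟩ := Module.Finite.exists_fin (R := gr E₀) (M := sectModEt G E₀)
  -- lifts of the values at the generators on a finite affine cover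
  choose T hT hT' using fun a => exists_rep_local D hc (hs φ E₀ (s a))
  have hTa : Finset.univ.inf T ∈ etTop X.obj E₀ := by
    refine Finset.inf_induction (p := fun T => T ∈ etTop X.obj E₀) (GrothendieckTopology.top_mem _ _)
      (fun a ha b hb => GrothendieckTopology.intersection_covering _ ha hb) fun a _ => hT a
  obtain ⟨κ, _, W, v, hW, hTv, hv⟩ := exists_affine_family hTa
  have hTle : ∀ a k, T a (v k) := fun a k =>
    (Finset.inf_le (f := T) (Finset.mem_univ a) : _ ≤ T a) _ (hTv k)
  choose i₁ t ht using fun k a => hT' a _ _ (hTle a k)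
  obtain ⟨i₀, hi₀⟩ := Finite.exists_le fun p : κ × Fin n => i₁ p.1 p.2
  let t₀ : ∀ k, Fin n → sectModEt (D.obj i₀) (W k) := fun k a =>
    hs (D.map (homOfLE (hi₀ (k, a)))) (W k) (t k a)
  have ht₀ : ∀ k a, hs (c.ι.app i₀) (W k) (t₀ k a) = hs φ (W k) (rs G (v k) (s a)) := fun k a =>
    (hs_ι_map (homOfLE (hi₀ (k, a))) _ _).trans ((ht k a).trans (hs_rs φ (v k) (s a)).symm)
  -- linear maps on the pieces
  have hk : ∀ k, ∃ (j : I) (f : i₀ ⟶ j) (l : sectModEt G (W k) →ₗ[gr (W k)] sectModEt (D.obj j) (W k)),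
      ∀ x, hs (c.ι.app j) (W k) (l x) = hs φ (W k) x := fun k => by
    have := hW k
    have : Module.FinitePresentation (gr (W k)) (sectModEt G (W k)) := finitePresentation_sections (W k)
    let L : (Fin n → gr (W k)) →ₗ[gr (W k)] sectModEt G (W k) :=
      Fintype.linearCombination _ fun a => rs G (v k) (s a)
    have hL : Function.Surjective L := by
      rw [← LinearMap.range_eq_top, Fintype.range_linearCombination, eq_top_iff]
      intro x _
      have hx : x ∈ Submodule.span (gr (W k)) (Set.range (rs G (v k))) := rs_mem_span_range (v k) x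
      refine Submodule.span_le.2 ?_ hx
      rintro _ ⟨y, rfl⟩
      have hy : y ∈ Submodule.span (gr E₀) (Set.range s) := hsp.symm ▸ Submodule.mem_top
      induction hy using Submodule.span_induction with
      | mem z hz => obtain ⟨a, rfl⟩ := hz; exact Submodule.subset_span ⟨a, rfl⟩
      | zero => rw [map_zero]; exact Submodule.zero_mem _
      | add a b _ _ ha hb => rw [map_add]; exact Submodule.add_mem _ ha hb
      | smul r a _ ha => rw [rs_smul]; exact Submodule.smul_mem _ _ ha
    obtain ⟨R, hR⟩ := Module.FinitePresentation.fg_ker L hL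
    let L' := Fintype.linearCombination (gr (W k)) (t₀ k)
    have hL' : ∀ r, hs (c.ι.app i₀) (W k) (L' r) = hs φ (W k) (L r) := fun r => by
      simp only [L, L', Fintype.linearCombination_apply, map_sum, map_smul, ht₀]
    choose j f hf using fun r : R => exists_zero hc (L' r.1) (by
      rw [hL', show L r.1 = 0 from LinearMap.mem_ker.1 (hR.le (Submodule.subset_span r.2)), map_zero])
    obtain ⟨m, hm⟩ := Finite.exists_le j
    obtain ⟨m', hm', him⟩ := directed_of (· ≤ ·) m i₀
    let L'' := (hs (D.map (homOfLE him)) (W k)).comp L'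
    have hker : LinearMap.ker L ≤ LinearMap.ker L'' := by
      rw [← hR, Submodule.span_le]
      intro r hr
      rw [SetLike.mem_coe, LinearMap.mem_ker, LinearMap.comp_apply,
        show homOfLE him = f ⟨r, hr⟩ ≫ homOfLE ((hm ⟨r, hr⟩).trans hm') from Subsingleton.elim _ _,
        ← hs_map_map, hf ⟨r, hr⟩, map_zero]
    refine ⟨m', homOfLE him,
      ((LinearMap.ker L).liftQ L'' hker).comp (L.quotKerEquivOfSurjective hL).symm.toLinearMap, fun x => ?_⟩
    obtain ⟨r, rfl⟩ := hL x
    have e : (L.quotKerEquivOfSurjective hL).symm (L r) = Submodule.Quotient.mk r := by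
      rw [LinearEquiv.symm_apply_eq]; rfl
    rw [LinearMap.comp_apply, LinearEquiv.coe_coe, e, Submodule.liftQ_apply]
    exact (hs_ι_map (homOfLE him) _ _).trans (hL' r)
  choose j f l hl using hk
  obtain ⟨i₂, hi₂⟩ := Finite.exists_le j
  have hfam : ∀ k, ∃ h : LinFam G (D.obj i₂) (W k), famPost (c.ι.app i₂) h = homFam φ (W k) := fun k => by
    have := hW k
    obtain ⟨ev, hev⟩ := exists_affine_eval G (D.obj i₂) (E := W k)
    refine ⟨ev.symm ((hs (D.map (homOfLE (hi₂ k))) (W k)).comp (l k)), fam_ext_affine (hW k) fun x => ?_⟩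
    rw [cmp_famPost, cmp_homFam, ← hev, LinearEquiv.apply_symm_apply]
    exact (hs_ι_map (homOfLE (hi₂ k)) _ _).trans (hl k x)
  choose h hh using hfam
  -- agreement on the overlaps
  have hp : ∀ p : κ × κ, ∃ (m : I) (g : i₂ ⟶ m),
      famPost (D.map g) (linRes (EtOver.prodFst (W p.1) (W p.2)) (h p.1)) =
        famPost (D.map g) (linRes (EtOver.prodSnd (W p.1) (W p.2)) (h p.2)) := fun p => by
    have := hW p.1
    have := hW p.2
    have := compactSpace_prodObj hqs (W p.1) (W p.2)
    refine exists_agree_fam hc _ _ (fam_ext fun V w hV x => ?_)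
    exact (congrArg (fun q => cmp q (w ≫ EtOver.prodFst _ _) hV x) (hh p.1)).trans
      (congrArg (fun q => cmp q (w ≫ EtOver.prodSnd _ _) hV x) (hh p.2)).symm
  choose m g hg using hp
  obtain ⟨i₃, hi₃⟩ := Finite.exists_le m
  obtain ⟨i, hi, hi'⟩ := directed_of (· ≤ ·) i₃ i₂
  let y : ∀ k, sectModEt (homMod G (D.obj i)) (W k) := fun k => famPost (D.map (homOfLE hi')) (h k)
  have hWcov : ∀ (E : EtOver X.obj) (x : E.obj.left.left), ∃ (k : κ) (Z : EtOver X.obj) (a : Z ⟶ E) (_ : Z ⟶ W k),
      x ∈ Set.range a.hom.left.left := fun E x => by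
    obtain ⟨z, rfl⟩ := hcov E x
    obtain ⟨k, w, hw⟩ := hv ((EtOver.prodSnd E E₀).hom.left.left z)
    have e : Points.ofPt (EtOver.prodObj E E₀).obj.hom z = Points.ofPt (W k).obj.hom w := by
      rw [← CostructuredArrow.w (EtOver.prodSnd E E₀).hom, ofPt_map_comp, ← hw,
        ← ofPt_map_comp (v k).hom.left, CostructuredArrow.w (v k).hom]
    obtain ⟨Z, a, b, q, -, hq, -⟩ := exists_common_affine e
    exact ⟨k, Z, a ≫ EtOver.prodFst E E₀, b, q, congrArg _ hq⟩
  obtain ⟨σ, hσ⟩ := exists_sections_glue W hWcov y fun k k' Z c₁ c₂ => by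
    obtain ⟨d, hd₁, hd₂⟩ := BinaryFan.IsLimit.lift' (EtOver.prodIsLimit (W k) (W k')) c₁ c₂
    refine fam_ext fun V w hV x => ?_
    rw [rs_homMod, rs_homMod, cmp_linRes, cmp_linRes, cmp_famPost, cmp_famPost, ← hd₁, ← hd₂,
      show homOfLE hi' = g (k, k') ≫ homOfLE ((hi₃ (k, k')).trans hi) from Subsingleton.elim _ _,
      ← hs_map_map, ← hs_map_map]
    refine congrArg (hs (D.map (homOfLE ((hi₃ (k, k')).trans hi))) V) ?_
    have e := congrArg (fun q => cmp q (w ≫ d) hV x) (hg (k, k'))
    simp only [cmp_famPost, cmp_linRes, Category.assoc] at e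
    exact e
  obtain ⟨ψ, hψ⟩ := exists_hom_of_sections G (D.obj i) σ
  refine ⟨i, ψ, FPCover.hom_ext_affine fun E hE x => ?_⟩
  choose k Z a b hz using hWcov E
  choose V w hV hwz _ using fun p : E.obj.left.left => SubQC.exists_affine_nbhd (Z p) ⊤ (x := (hz p).choose) trivial
  refine eq_of_family (fun p => w p ≫ a p) (fun p => ⟨p, ?_⟩) fun p => ?_
  · obtain ⟨q, hq⟩ := hwz p
    exact ⟨q, (congrArg _ hq).trans (hz p).choose_spec⟩
  · rw [← hs_rs, ← hs_rs, hs_comp, hψ _ (hV p), ← res_sec σ (w p ≫ b p), hσ]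
    change hs (c.ι.app i) (V p) (cmp (linRes (w p ≫ b p) (famPost (D.map (homOfLE hi')) (h (k p)))) (𝟙 _) (hV p) _) = _
    rw [cmp_linRes, cmp_famPost, hs_ι_map]
    exact congrArg (fun q => cmp q (𝟙 (V p) ≫ w p ≫ b p) (hV p) (rs G (w p ≫ a p) x)) (hh (k p))

end Groth.Agent.AlgSpB.HomColim
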